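import Groth.Prelude.Def_W4bk4git07Quot
import Mathlib.AlgebraicGeometry.Morphisms.FlatDescent
import Mathlib.AlgebraicGeometry.Morphisms.Proper

/-!
Equivariant maps of principal bundles are cartesian over the maps of bases.
-/

universe u

open CategoryTheory CategoryTheory.Limits MonoidalCategory CartesianMonoidalCategory MonObj GrpObj
open AlgebraicGeometry

namespace GrothLib.AssocBundle

variable {S : Scheme.{u}}

theorem isPullback_whiskerLeft_snd (A : Over S) {C D : Over S} (f : C ⟶ D) :
    IsPullback (A ◁ f).left (snd A C).left (snd A D).left f.left := by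
  have hw : (A ◁ f).left ≫ (snd A D).left = (snd A C).left ≫ f.left := by
    rw [← Over.comp_left, ← Over.comp_left, whiskerLeft_snd]
  have h1 : (A ◁ f).left ≫ pullback.fst A.hom D.hom = pullback.fst A.hom C.hom := by
    show (A ◁ f).left ≫ (fst A D).left = (fst A C).left
    rw [← Over.comp_left, whiskerLeft_fst]
  refine IsPullback.of_right (h₁₂ := pullback.fst A.hom D.hom) (v₁₃ := A.hom) (h₂₂ := D.hom)
    ?_ hw (IsPullback.of_hasPullback A.hom D.hom)
  rw [h1, Over.w f]
  exact IsPullback.of_hasPullback A.hom C.hom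

variable {H : Over S} [GrpObj H]

theorem isPullback_psiY {Y Q : Over S} (c : AlgGrp.Action H Y) (φ : Y ⟶ Q) (hφ : GIT.IsInvariant c φ)
    (h : IsIso (GIT.PsiY c φ hφ)) : IsPullback c.act.left (snd H Y).left φ.left φ.left :=
  IsPullback.of_iso_pullback ⟨hφ.left⟩ (asIso (GIT.PsiY c φ hφ)) (pullback.lift_fst _ _ _) (pullback.lift_snd _ _ _)

/-- A map of principal bundles is cartesian over the map of bases. -/
theorem isPullback_of_equivariant {Y Q Z B : Over S} (c : AlgGrp.Action H Y) (φ : Y ⟶ Q)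
    (hφ : GIT.IsInvariant c φ) (hc : IsIso (GIT.PsiY c φ hφ)) [Surjective φ.left] [Flat φ.left]
    [QuasiCompact φ.left] (d : AlgGrp.Action H Z) (ρ : Z ⟶ B) (hρ : GIT.IsInvariant d ρ)
    (hd : IsIso (GIT.PsiY d ρ hρ)) (g : Y ⟶ Z) (r : Q ⟶ B)
    (hg : (H ◁ g) ≫ d.act = c.act ≫ g) (hw : g ≫ ρ = φ ≫ r) :
    IsPullback g.left φ.left ρ.left r.left := by
  have hwl : g.left ≫ ρ.left = φ.left ≫ r.left := by rw [← Over.comp_left, ← Over.comp_left, hw]
  have h1 := (isPullback_whiskerLeft_snd H g).paste_horiz (isPullback_psiY d ρ hρ hd)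
  rw [← Over.comp_left, hg, Over.comp_left, hwl] at h1
  let θ : Y.left ⟶ pullback ρ.left r.left := pullback.lift g.left φ.left hwl
  have hP := IsPullback.of_hasPullback ρ.left r.left
  let α : (H ⊗ Y).left ⟶ pullback ρ.left r.left :=
    pullback.lift (c.act.left ≫ g.left) ((snd H Y).left ≫ φ.left)
      (by rw [Category.assoc, Category.assoc, hwl, ← Category.assoc, hφ.left, Category.assoc])
  have h2 : IsPullback α (snd H Y).left (pullback.snd ρ.left r.left) φ.left := by
    refine IsPullback.of_right (h₁₂ := pullback.fst ρ.left r.left) (v₁₃ := ρ.left) (h₂₂ := r.left) ?_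
      (pullback.lift_snd _ _ _) hP
    rw [pullback.lift_fst]; exact h1
  have h3 : IsPullback c.act.left (𝟙 _) θ α := by
    refine IsPullback.of_bot (h₃₁ := φ.left) (v₂₁ := (snd H Y).left) (v₂₂ := pullback.snd ρ.left r.left) ?_ ?_ h2
    · rw [Category.id_comp, pullback.lift_snd]; exact isPullback_psiY c φ hφ hc
    · rw [Category.id_comp]
      apply pullback.hom_ext <;> simp only [θ, α, Category.assoc, pullback.lift_fst, pullback.lift_snd]
      exact hφ.left
  have hα : (@Surjective ⊓ @Flat ⊓ @QuasiCompact : MorphismProperty Scheme.{u}) α :=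
    MorphismProperty.of_isPullback h2.flip ⟨⟨‹_›, ‹_›⟩, ‹_›⟩
  have : IsIso θ :=
    MorphismProperty.of_isPullback_of_descendsAlong (P := MorphismProperty.isomorphisms Scheme.{u})
      (Q := @Surjective ⊓ @Flat ⊓ @QuasiCompact) h3.flip hα
      ((MorphismProperty.isomorphisms.iff _).2 inferInstance)
  exact IsPullback.of_iso_pullback ⟨hwl⟩ (asIso θ) (pullback.lift_fst _ _ _) (pullback.lift_snd _ _ _)

/-- A property descending along fpqc maps passes to the map of bases. -/
theorem property_bases (P : MorphismProperty Scheme.{u}) [P.DescendsAlong (@Surjective ⊓ @Flat ⊓ @QuasiCompact)]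
    {Y Q Z B : Over S} {g : Y ⟶ Z} {φ : Y ⟶ Q} {ρ : Z ⟶ B} {r : Q ⟶ B}
    (h : IsPullback g.left φ.left ρ.left r.left) [Surjective ρ.left] [Flat ρ.left] [QuasiCompact ρ.left]
    (hg : P g.left) : P r.left :=
  MorphismProperty.of_isPullback_of_descendsAlong (Q := @Surjective ⊓ @Flat ⊓ @QuasiCompact) h
    ⟨⟨‹_›, ‹_›⟩, ‹_›⟩ hg

theorem quasiCompact_left {X Y : Over S} [QuasiCompact X.hom] [IsSeparated Y.hom] (f : X ⟶ Y) :
    QuasiCompact f.left := by
  have : QuasiCompact (f.left ≫ Y.hom) := by rw [Over.w f]; infer_instance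
  exact QuasiCompact.of_comp _ Y.hom

end GrothLib.AssocBundle
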