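import Groth.Agent.Lib.AssocBundle.Basic
import Groth.Agent.Lib.GrpSchField.Shear
import Groth.Agent.Lib.SchEffective.FppfIndQA
import Groth.Agent.Lib.EtSite.FpqcDescent
import Groth.Prelude.Def_AlgGrp

/-!
Associated bundles with affine fibre exist: descent of an affine scheme along a principal bundle.
-/

universe u

open CategoryTheory CategoryTheory.Limits MonoidalCategory CartesianMonoidalCategory MonObj GrpObj
open AlgebraicGeometry Desc

namespace GrothLib.AssocBundle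

variable {S : Scheme.{u}} {G X Y Z : Over S} [GrpObj G]

/-- Affine morphisms are ind-quasi-affine. -/
theorem indQA_of_isAffineHom {A B : Scheme.{u}} (f : A ⟶ B) [IsAffineHom f] :
    MoreMor.IsIndQuasiAffineHom f := by
  rw [IndQA.indQA_iff]
  intro V hV U hle hU
  haveI : IsAffine (f ⁻¹ᵁ V : Scheme.{u}) := hV.preimage f
  exact IndQA.qa_mono (W := f ⁻¹ᵁ V) inferInstance hU hle

/-- The diagonal action. -/
noncomputable def diagMap (a : AlgGrp.Action G X) (b : AlgGrp.Action G Z) : G ⊗ (X ⊗ Z) ⟶ X ⊗ Z :=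
  lift ((G ◁ fst X Z) ≫ a.act) ((G ◁ snd X Z) ≫ b.act)

theorem lift_diagMap (a : AlgGrp.Action G X) (b : AlgGrp.Action G Z) {T : Over S} (g : T ⟶ G) (p : T ⟶ X ⊗ Z) :
    lift g p ≫ diagMap a b = lift (lift g (p ≫ fst X Z) ≫ a.act) (lift g (p ≫ snd X Z) ≫ b.act) := by
  rw [diagMap, comp_lift, lift_whiskerLeft_assoc, lift_whiskerLeft_assoc]

/-- The orbit relation of the diagonal action, on points. -/
def Rel (a : AlgGrp.Action G X) (b : AlgGrp.Action G Z) {T : Scheme.{u}} (v w : T ⟶ (X ⊗ Z).left) : Prop :=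
  ∃ u : T ⟶ (G ⊗ (X ⊗ Z)).left, u ≫ (snd G (X ⊗ Z)).left = v ∧ u ≫ (diagMap a b).left = w

variable {a : AlgGrp.Action G X} {b : AlgGrp.Action G Z}

theorem Rel.natural {T T' : Scheme.{u}} {v w : T ⟶ (X ⊗ Z).left} (h : Rel a b v w) (k : T' ⟶ T) :
    Rel a b (k ≫ v) (k ≫ w) := by
  obtain ⟨u, rfl, rfl⟩ := h
  exact ⟨k ≫ u, Category.assoc _ _ _, Category.assoc _ _ _⟩

theorem Rel.refl {T : Scheme.{u}} (v : T ⟶ (X ⊗ Z).left) : Rel a b v v := by
  refine ⟨v ≫ (lift (1 : X ⊗ Z ⟶ G) (𝟙 _)).left, ?_, ?_⟩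
  · rw [Category.assoc, ← Over.comp_left, lift_snd]
    exact Category.comp_id v
  · rw [Category.assoc, ← Over.comp_left, lift_diagMap, GrpSchField.act_one, GrpSchField.act_one,
      Category.id_comp, Category.id_comp, lift_fst_snd]
    exact Category.comp_id v

theorem Rel.trans {T : Scheme.{u}} {v₀ v₁ v₂ : T ⟶ (X ⊗ Z).left} (h : Rel a b v₀ v₁) (h' : Rel a b v₁ v₂) :
    Rel a b v₀ v₂ := by
  obtain ⟨u, hu₀, hu₁⟩ := h
  obtain ⟨u', hu'₁, hu'₂⟩ := h'
  obtain ⟨t, ht₁, ht₂⟩ : ∃ t, t ≫ (G ◁ diagMap a b).left = u' ∧ t ≫ (snd G (G ⊗ (X ⊗ Z))).left = u :=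
    ⟨_, (isPullback_whiskerLeft_snd G (diagMap a b)).lift_fst u' u (hu'₁.trans hu₁.symm),
      (isPullback_whiskerLeft_snd G (diagMap a b)).lift_snd _ _ _⟩
  let m : G ⊗ (G ⊗ (X ⊗ Z)) ⟶ G ⊗ (X ⊗ Z) :=
    lift (fst _ _ * (snd _ _ ≫ fst _ _)) (snd _ _ ≫ snd _ _)
  refine ⟨t ≫ m.left, ?_, ?_⟩
  · rw [Category.assoc, ← Over.comp_left, lift_snd, Over.comp_left, reassoc_of% ht₂, hu₀]
  · have hm : m ≫ diagMap a b = (G ◁ diagMap a b) ≫ diagMap a b := by
      have e : G ◁ diagMap a b = lift (fst _ _) (snd _ _ ≫ diagMap a b) := by ext <;> simp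
      rw [e, lift_diagMap, lift_diagMap, GrpSchField.act_mul, GrpSchField.act_mul]
      have e₁ : G ◁ fst X Z = lift (fst _ _) (snd _ _ ≫ fst X Z) := by ext <;> simp
      have e₂ : G ◁ snd X Z = lift (fst _ _) (snd _ _ ≫ snd X Z) := by ext <;> simp
      congr 1 <;> simp [diagMap, e₁, e₂, comp_lift_assoc]
    rw [Category.assoc, ← Over.comp_left, hm, Over.comp_left, reassoc_of% ht₁, hu'₂]

variable {f : X ⟶ Y} (hsq : IsPullback a.act.left (snd G X).left f.left f.left)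

include hsq

theorem rel_existsUnique {T : Scheme.{u}} (v : T ⟶ (X ⊗ Z).left) (x₁ : T ⟶ X.left)
    (h : (v ≫ (fst X Z).left) ≫ f.left = x₁ ≫ f.left) :
    ∃! w : T ⟶ (X ⊗ Z).left, Rel a b v w ∧ w ≫ (fst X Z).left = x₁ := by
  have sq := isPullback_whiskerLeft_snd G (fst X Z)
  have hd : (diagMap a b).left ≫ (fst X Z).left = (G ◁ fst X Z).left ≫ a.act.left := by
    rw [← Over.comp_left, ← Over.comp_left, diagMap, lift_fst]
  let u := sq.lift (hsq.lift x₁ (v ≫ (fst X Z).left) h.symm) v (hsq.lift_snd _ _ _)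
  refine ⟨u ≫ (diagMap a b).left, ⟨⟨u, sq.lift_snd _ _ _, rfl⟩, ?_⟩, ?_⟩
  · rw [Category.assoc, hd, sq.lift_fst_assoc, hsq.lift_fst]
  · rintro w ⟨⟨u', hu', rfl⟩, hw⟩
    congr 1
    refine sq.hom_ext ?_ (hu'.trans (sq.lift_snd _ _ _).symm)
    rw [sq.lift_fst]
    refine hsq.hom_ext ?_ ?_
    · rw [hsq.lift_fst, ← hw, Category.assoc, Category.assoc, hd]
    · rw [hsq.lift_snd, Category.assoc, sq.w, reassoc_of% hu']

/-- The descent datum on `X ⊗ Z` along a principal bundle. -/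
theorem exists_datum : ∃ (D : SchDD f.left) (e : D.obj = Over.mk (fst X Z).left),
    ∀ ⦃T : Scheme.{u}⦄ (x₀ x₁ : T ⟶ X.left) (h : x₀ ≫ f.left = x₁ ≫ f.left) (v : Lifts D.obj x₀),
      Rel a b (v.1 ≫ (eqToHom e).left) ((D.φ x₀ x₁ h v).1 ≫ (eqToHom e).left) := by
  let O : Over X.left := Over.mk (fst X Z).left
  have key : ∀ (T : Scheme.{u}) (x₀ x₁ : T ⟶ X.left) (_ : x₀ ≫ f.left = x₁ ≫ f.left) (v : Lifts O x₀),
      ∃ w : Lifts O x₁, Rel a b v.1 w.1 ∧ ∀ w' : Lifts O x₁, Rel a b v.1 w'.1 → w' = w := by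
    intro T x₀ x₁ h v
    obtain ⟨w, ⟨hw, hwx⟩, huniq⟩ := rel_existsUnique (b := b) hsq v.1 x₁
      ((congrArg (· ≫ f.left) v.2).trans h)
    exact ⟨⟨w, hwx⟩, hw, fun w' hw' => Subtype.ext (huniq w'.1 ⟨hw', w'.2⟩)⟩
  choose F hF hFu using key
  have hself : ∀ (T : Scheme.{u}) (x : T ⟶ X.left) (h : x ≫ f.left = x ≫ f.left) (v : Lifts O x),
      F T x x h v = v := fun T x h v => (hFu T x x h v v (Rel.refl v.1)).symm
  have hcomp : ∀ (T : Scheme.{u}) (x₀ x₁ x₂ : T ⟶ X.left) (h : x₀ ≫ f.left = x₁ ≫ f.left)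
      (h' : x₁ ≫ f.left = x₂ ≫ f.left) (h'' : x₀ ≫ f.left = x₂ ≫ f.left) (v : Lifts O x₀),
      F T x₁ x₂ h' (F T x₀ x₁ h v) = F T x₀ x₂ h'' v := fun T x₀ x₁ x₂ h h' h'' v =>
    hFu T x₀ x₂ h'' v _ ((hF T x₀ x₁ h v).trans (hF T x₁ x₂ h' _))
  refine ⟨
    { obj := O
      φ := fun T x₀ x₁ h =>
        { toFun := F T x₀ x₁ h
          invFun := F T x₁ x₀ h.symm
          left_inv := fun v => (hcomp T x₀ x₁ x₀ h h.symm rfl v).trans (hself T x₀ rfl v)
          right_inv := fun v => (hcomp T x₁ x₀ x₁ h.symm h rfl v).trans (hself T x₁ rfl v) }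
      φ_natural := fun T T' g x₀ x₁ h h' v v' hv' => ?_
      φ_self := fun T x v => hself T x rfl v
      φ_comp := fun T x₀ x₁ x₂ h h' v => hcomp T x₀ x₁ x₂ h h' _ v }, rfl, fun T x₀ x₁ h v => ?_⟩
  · let w : Lifts O (g ≫ x₁) := ⟨g ≫ (F T x₀ x₁ h v).1, by
      rw [Category.assoc]; exact congrArg (g ≫ ·) (F T x₀ x₁ h v).2⟩
    refine (congrArg Subtype.val (hFu T' (g ≫ x₀) (g ≫ x₁) h' v' w ?_)).symm
    show Rel a b v'.1 (g ≫ _)
    rw [hv']
    exact (hF T x₀ x₁ h v).natural g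
  · show Rel a b (v.1 ≫ 𝟙 _) ((F T x₀ x₁ h v).1 ≫ 𝟙 _)
    rw [Category.comp_id, Category.comp_id]
    exact hF T x₀ x₁ h v

/-- An associated bundle exists as soon as the descent datum on `X ⊗ Z` is effective. -/
theorem exists_associated_of_effective [Flat f.left] [Surjective f.left]
    (heff : ∀ D : SchDD f.left, D.obj = Over.mk (fst X Z).left → ∃ U : Over Y.left, Nonempty ((toDD f.left).obj U ≅ D)) :
    ∃ (W : Over S) (φ : X ⊗ Z ⟶ W) (ψ : W ⟶ Y), Flat φ.left ∧ Surjective φ.left ∧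
      diagMap a b ≫ φ = snd G (X ⊗ Z) ≫ φ ∧ IsPullback (fst X Z).left φ.left f.left ψ.left := by
  obtain ⟨D, e, hD⟩ := exists_datum (b := b) hsq (Z := Z)
  rcases D with ⟨O, Φ, hn, hs, hc⟩
  dsimp only at e
  subst e
  let D : SchDD f.left := ⟨Over.mk (fst X Z).left, Φ, hn, hs, hc⟩
  obtain ⟨U, ⟨i⟩⟩ := heff D rfl
  let j : (X ⊗ Z).left ⟶ pullback f.left U.hom := i.inv.hom.left
  have hj : j ≫ pullback.fst f.left U.hom = (fst X Z).left := Over.w i.inv.hom
  let jiso : (X ⊗ Z).left ≅ pullback f.left U.hom :=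
    ⟨j, i.hom.hom.left, congrArg (fun k : D ⟶ D => k.hom.left) i.inv_hom_id,
      congrArg (fun k : (toDD f.left).obj U ⟶ (toDD f.left).obj U => k.hom.left) i.hom_inv_id⟩
  let W : Over S := Over.mk (U.hom ≫ Y.hom)
  let φ : X ⊗ Z ⟶ W := Over.homMk (j ≫ pullback.snd f.left U.hom) (by
    show (j ≫ _) ≫ U.hom ≫ Y.hom = _
    rw [Category.assoc, ← pullback.condition_assoc, ← Category.assoc, hj, Over.w f, Over.w (fst X Z)])
  let ψ : W ⟶ Y := Over.homMk U.hom rfl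
  have sq : IsPullback (fst X Z).left φ.left f.left ψ.left :=
    IsPullback.of_iso_pullback ⟨by
        show (fst X Z).left ≫ f.left = (j ≫ pullback.snd f.left U.hom) ≫ U.hom
        rw [Category.assoc, ← pullback.condition, ← Category.assoc, hj]⟩ jiso hj rfl
  refine ⟨W, φ, ψ, ?_, ?_, ?_, sq⟩
  · exact MorphismProperty.of_isPullback (P := @Flat) sq ‹_›
  · exact MorphismProperty.of_isPullback (P := @Surjective) sq ‹_›
  · apply Over.OverMorphism.ext
    let T := (G ⊗ (X ⊗ Z)).left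
    let x₀ : T ⟶ X.left := (snd G (X ⊗ Z)).left ≫ (fst X Z).left
    let x₁ : T ⟶ X.left := (diagMap a b).left ≫ (fst X Z).left
    have h : x₀ ≫ f.left = x₁ ≫ f.left := by
      have hd : (diagMap a b).left ≫ (fst X Z).left = (G ◁ fst X Z).left ≫ a.act.left := by
        rw [← Over.comp_left, ← Over.comp_left, diagMap, lift_fst]
      simp only [x₀, x₁, hd, Category.assoc, hsq.w]
      rw [← (isPullback_whiskerLeft_snd G (fst X Z)).w_assoc]
    let v : Lifts D.obj x₀ := ⟨(snd G (X ⊗ Z)).left, rfl⟩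
    have hv : (D.φ x₀ x₁ h v).1 = (diagMap a b).left := by
      refine (rel_existsUnique (b := b) hsq v.1 x₁ h).unique ⟨?_, (D.φ x₀ x₁ h v).2⟩ ⟨⟨𝟙 _, ?_, ?_⟩, rfl⟩
      · have h2 : Rel a b (v.1 ≫ 𝟙 _) ((D.φ x₀ x₁ h v).1 ≫ 𝟙 _) := hD x₀ x₁ h v
        rwa [Category.comp_id, Category.comp_id] at h2
      · exact Category.id_comp _
      · exact Category.id_comp _
    let w : Lifts ((toDD f.left).obj U).obj x₀ :=
      ⟨v.1 ≫ j, by show (v.1 ≫ j) ≫ pullback.fst f.left U.hom = x₀; rw [Category.assoc, hj]⟩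
    have hcomm := congrArg (· ≫ pullback.snd f.left U.hom) (i.inv.comm x₀ x₁ h v w rfl)
    have hcan : (((toDD f.left).obj U).φ x₀ x₁ h w).1 ≫ pullback.snd f.left U.hom =
        w.1 ≫ pullback.snd f.left U.hom := pullback.lift_snd _ _ _
    rw [Over.comp_left, Over.comp_left]
    show (diagMap a b).left ≫ j ≫ pullback.snd f.left U.hom = _
    refine Eq.trans ?_ ((hcomm.symm.trans hcan).trans (Category.assoc _ _ _))
    show _ = ((D.φ x₀ x₁ h v).1 ≫ j) ≫ _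
    rw [hv, Category.assoc]

/-- The quotient map of an associated bundle is a principal bundle for the diagonal action. -/
theorem isPullback_diagMap {W : Over S} {φ : X ⊗ Z ⟶ W} {ψ : W ⟶ Y}
    (hinv : diagMap a b ≫ φ = snd G (X ⊗ Z) ≫ φ) (sq : IsPullback (fst X Z).left φ.left f.left ψ.left) :
    IsPullback (diagMap a b).left (snd G (X ⊗ Z)).left φ.left φ.left := by
  have h1 := (isPullback_whiskerLeft_snd G (fst X Z)).paste_horiz hsq
  have hd : (G ◁ fst X Z).left ≫ a.act.left = (diagMap a b).left ≫ (fst X Z).left := by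
    rw [← Over.comp_left, ← Over.comp_left, diagMap, lift_fst]
  rw [hd, sq.w] at h1
  exact IsPullback.of_right h1 (by rw [← Over.comp_left, ← Over.comp_left, hinv]) sq

/-- Associated bundles with affine fibres exist. -/
theorem exists_associated_of_affine [Flat f.left] [Surjective f.left] [LocallyOfFinitePresentation f.left]
    [QuasiCompact f.left] [IsAffineHom Z.hom] :
    ∃ (W : Over S) (φ : X ⊗ Z ⟶ W) (ψ : W ⟶ Y), IsAffineHom ψ.left ∧ Flat φ.left ∧ Surjective φ.left ∧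
      diagMap a b ≫ φ = snd G (X ⊗ Z) ≫ φ ∧ IsPullback (fst X Z).left φ.left f.left ψ.left := by
  haveI : IsAffineHom (fst X Z).left :=
    (MorphismProperty.pullback_fst (P := @IsAffineHom) X.hom Z.hom ‹_› : IsAffineHom (pullback.fst X.hom Z.hom))
  obtain ⟨W, φ, ψ, hφf, hφs, hinv, sq⟩ := exists_associated_of_effective (b := b) hsq fun D e =>
    GrothLib.SchEffective.exists_descent_of_indQA f.left D (by rw [e]; exact indQA_of_isAffineHom (fst X Z).left)
  exact ⟨W, φ, ψ, MorphismProperty.of_isPullback_of_descendsAlong (P := @IsAffineHom) (Q := GrothLib.EtSite.fpqcCov)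
    sq ⟨⟨‹_›, ‹_›⟩, ‹_›⟩ inferInstance, hφf, hφs, hinv, sq⟩

end GrothLib.AssocBundle
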