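import Groth.Agent.Lib.AssocBundle.Basic
import Groth.Agent.Lib.AlgSp.FpqcProps
import Groth.Agent.Lib.GrpSchField.Shear

/-!
A bundle trivialised after a faithfully flat base change locally on the base is principal.
-/

universe u

open CategoryTheory CategoryTheory.Limits MonoidalCategory CartesianMonoidalCategory MonObj GrpObj
open AlgebraicGeometry

namespace GrothLib.AssocBundle

variable {S : Scheme.{u}} {G : Over S} [GrpObj G]

theorem isPullback_mulRight (T : Over S) :
    IsPullback (lift (snd G (T ⊗ G) ≫ fst T G) (fst G (T ⊗ G) * (snd G (T ⊗ G) ≫ snd T G))) (snd G (T ⊗ G))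
      (fst T G) (fst T G) := by
  refine IsPullback.of_isLimit' ⟨by simp⟩ (PullbackCone.isLimitAux _
    (fun c => lift ((c.fst ≫ snd T G) * (c.snd ≫ snd T G)⁻¹) c.snd) (fun c => ?_) (fun c => lift_snd _ _)
    fun c m hm => ?_)
  · show lift _ _ ≫ lift _ _ = c.fst
    apply CartesianMonoidalCategory.hom_ext
    · simp only [comp_lift, lift_fst, lift_snd_assoc]
      exact c.condition.symm
    · simp [MonObj.comp_mul]
  · have h1 : m ≫ lift (snd G (T ⊗ G) ≫ fst T G) (fst G (T ⊗ G) * (snd G (T ⊗ G) ≫ snd T G)) = c.fst :=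
      hm WalkingCospan.left
    have h2 : m ≫ snd G (T ⊗ G) = c.snd := hm WalkingCospan.right
    apply CartesianMonoidalCategory.hom_ext
    · rw [lift_fst, ← h1, ← h2]
      have key : ∀ {Z : Over S} (m' : Z ⟶ G ⊗ (T ⊗ G)), m' ≫ fst G (T ⊗ G) =
          ((m' ≫ lift (snd G (T ⊗ G) ≫ fst T G) (fst G (T ⊗ G) * (snd G (T ⊗ G) ≫ snd T G))) ≫ snd T G) *
            ((m' ≫ snd G (T ⊗ G)) ≫ snd T G)⁻¹ := fun m' => by simp [MonObj.comp_mul]
      exact key m
    · rw [lift_snd]; exact h2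

variable {P X : Over S} (a : AlgGrp.Action G P) (π : P ⟶ X) (hinv : GIT.IsInvariant a π)

theorem isIso_psiY_restrict (U : X.left.Opens) {T : Over S} (φ : T.left ⟶ U.toScheme) [Surjective φ] [Flat φ]
    [QuasiCompact φ] (s : T ⟶ P)
    (hsq : IsPullback (fst T G).left (lift (snd T G) (fst T G ≫ s) ≫ a.act).left (φ ≫ U.ι) π.left) :
    IsIso (GIT.PsiY a π hinv ∣_ (pullback.snd π.left π.left ⁻¹ᵁ (π.left ⁻¹ᵁ U))) ∧
      ((Flat (fst T G).left) → Flat (π.left ∣_ U)) := by
  let e : T ⊗ G ⟶ P := lift (snd T G) (fst T G ≫ s) ≫ a.act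
  let Ψ := GIT.PsiY a π hinv
  have hm := (isPullback_mulRight (G := G) T).map (Over.forget S)
  have hme : lift (snd G (T ⊗ G) ≫ fst T G) (fst G (T ⊗ G) * (snd G (T ⊗ G) ≫ snd T G)) ≫ e = (G ◁ e) ≫ a.act := by
    simp only [e, comp_lift_assoc, lift_snd, lift_fst_assoc, Category.assoc, GrothLib.GrpSchField.act_mul]
    congr 1
    apply CartesianMonoidalCategory.hom_ext
    · simp
    · simp [comp_lift_assoc]
  have h1 : IsPullback ((G ◁ e) ≫ a.act).left (snd G (T ⊗ G)).left π.left (e.left ≫ π.left) := by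
    have := hm.paste_horiz (hsq.flip)
    rw [← hsq.w, ← hme, Over.comp_left]
    exact this
  have hwα : ((G ◁ e) ≫ a.act).left ≫ π.left = ((snd G (T ⊗ G)).left ≫ e.left) ≫ π.left := by
    rw [Category.assoc]; exact h1.w
  let α := pullback.lift ((G ◁ e) ≫ a.act).left ((snd G (T ⊗ G)).left ≫ e.left) hwα
  have h2 : IsPullback α (snd G (T ⊗ G)).left (pullback.snd π.left π.left) e.left := by
    refine IsPullback.of_right (h₁₂ := pullback.fst π.left π.left) (v₁₃ := π.left) (h₂₂ := π.left) ?_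
      (pullback.lift_snd _ _ _) (IsPullback.of_hasPullback π.left π.left)
    rw [pullback.lift_fst]; exact h1
  have h3 : IsPullback (G ◁ e).left (𝟙 _) Ψ α := by
    refine IsPullback.of_bot (h₃₁ := e.left) (v₂₁ := (snd G (T ⊗ G)).left) (v₂₂ := pullback.snd π.left π.left) ?_ ?_ h2
    · rw [Category.id_comp]
      show IsPullback _ _ (GIT.PsiY a π hinv ≫ _) _
      rw [GIT.PsiY, pullback.lift_snd]
      exact isPullback_whiskerLeft_snd G e
    · rw [Category.id_comp]
      apply pullback.hom_ext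
      · simp only [Ψ, α, GIT.PsiY, Category.assoc, pullback.lift_fst]
        rw [Over.comp_left]
      · simp only [Ψ, α, GIT.PsiY, Category.assoc, pullback.lift_snd]
        rw [← Over.comp_left, ← Over.comp_left, whiskerLeft_snd]
  let V := π.left ⁻¹ᵁ U
  have heV : Set.range e.left ⊆ Set.range V.ι := by
    rw [Scheme.Opens.range_ι]
    rintro _ ⟨z, rfl⟩
    show π.left (e.left z) ∈ U
    rw [← Scheme.Hom.comp_apply, ← hsq.w]
    exact (φ _).2
  let e' := IsOpenImmersion.lift V.ι e.left heV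
  have he' : e' ≫ V.ι = e.left := IsOpenImmersion.lift_fac _ _ _
  have hsq' : IsPullback (fst T G).left e' φ (π.left ∣_ U) := by
    refine IsPullback.of_bot (h₃₁ := π.left) (v₂₁ := V.ι) (v₂₂ := U.ι) ?_ ?_ (isPullback_morphismRestrict π.left U)
    · rw [he']; exact hsq
    · rw [← cancel_mono U.ι, Category.assoc, Category.assoc, morphismRestrict_ι π.left U, reassoc_of% he']
      exact hsq.w
  refine ⟨?_, fun hfl => ?_⟩
  swap
  · have := GrothLib.AlgSp.descendsAlong_flat_fpqc.{u}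
    exact MorphismProperty.of_isPullback_of_descendsAlong (Q := @Surjective ⊓ @Flat ⊓ @QuasiCompact) hsq'
      ⟨⟨‹_›, ‹_›⟩, ‹_›⟩ hfl
  let W := pullback.snd π.left π.left ⁻¹ᵁ V
  have hαW : Set.range α ⊆ Set.range W.ι := by
    rw [Scheme.Opens.range_ι]
    rintro _ ⟨z, rfl⟩
    show pullback.snd π.left π.left (α z) ∈ V
    rw [← Scheme.Hom.comp_apply, h2.w, Scheme.Hom.comp_apply]
    exact (Scheme.Opens.range_ι V).subset (heV (Set.mem_range_self _))
  let α' := IsOpenImmersion.lift W.ι α hαW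
  have hα' : α' ≫ W.ι = α := IsOpenImmersion.lift_fac _ _ _
  have h2' : IsPullback α' (snd G (T ⊗ G)).left (pullback.snd π.left π.left ∣_ V) e' := by
    refine (IsPullback.of_bot (h₃₁ := pullback.snd π.left π.left) (v₂₁ := W.ι) (v₂₂ := V.ι) ?_ ?_
      (isPullback_morphismRestrict (pullback.snd π.left π.left) V)).flip
    · rw [hα', he']; exact h2.flip
    · rw [← cancel_mono V.ι, Category.assoc, Category.assoc, he', morphismRestrict_ι (pullback.snd π.left π.left) V, reassoc_of% hα']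
      exact h2.flip.w
  have hlW : Set.range (G ◁ e).left ⊆ Set.range (Ψ ⁻¹ᵁ W).ι := by
    rw [Scheme.Opens.range_ι]
    rintro _ ⟨z, rfl⟩
    show Ψ ((G ◁ e).left z) ∈ W
    rw [← Scheme.Hom.comp_apply, h3.w, Scheme.Hom.comp_apply]
    exact (Scheme.Opens.range_ι W).subset (hαW (Set.mem_range_self _))
  let l := IsOpenImmersion.lift (Ψ ⁻¹ᵁ W).ι (G ◁ e).left hlW
  have hl : l ≫ (Ψ ⁻¹ᵁ W).ι = (G ◁ e).left := IsOpenImmersion.lift_fac _ _ _
  have h4 : IsPullback (𝟙 _) l α' (Ψ ∣_ W) := by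
    refine IsPullback.of_bot (h₃₁ := Ψ) (v₂₁ := (Ψ ⁻¹ᵁ W).ι) (v₂₂ := W.ι) ?_ ?_
      (isPullback_morphismRestrict Ψ W)
    · rw [hl, hα']; exact h3.flip
    · rw [← cancel_mono W.ι, Category.id_comp, hα', Category.assoc, morphismRestrict_ι Ψ W, reassoc_of% hl]
      simpa using h3.w.symm
  have he'q : (@Surjective ⊓ @Flat ⊓ @QuasiCompact : MorphismProperty Scheme.{u}) e' :=
    MorphismProperty.of_isPullback hsq' (show (@Surjective ⊓ @Flat ⊓ @QuasiCompact : MorphismProperty Scheme.{u}) φ from ⟨⟨‹_›, ‹_›⟩, ‹_›⟩)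
  exact MorphismProperty.of_isPullback_of_descendsAlong (P := MorphismProperty.isomorphisms Scheme.{u})
    (Q := @Surjective ⊓ @Flat ⊓ @QuasiCompact) h4 (MorphismProperty.of_isPullback h2'.flip he'q)
    ((MorphismProperty.isomorphisms.iff _).2 inferInstance)

end GrothLib.AssocBundle
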